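/- The cover and the intersection matrix (generated by tools/cgt/dcel.py). -/
import Cfsg.Agent.SPOR.Y3.Item
import Cfsg.Agent.SPOR.Y3.CovD0
set_option autoImplicit false
set_option Elab.async false
set_option maxRecDepth 100000

namespace CL.Y3
open CL.CE CL.K CL.Net CL.DCE

noncomputable def C1 : ℕ := (cat (nat_lit 32768) [C1_0, C1_1, C1_2, C1_3, C1_4, C1_5, C1_6, C1_7, C1_8, C1_9, C1_10, C1_11, C1_12, C1_13])
noncomputable def C2 : ℕ := (cat (nat_lit 32768) [C2_0, C2_1, C2_2, C2_3, C2_4, C2_5, C2_6, C2_7, C2_8, C2_9, C2_10, C2_11, C2_12, C2_13])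
noncomputable def C3 : ℕ := (cat (nat_lit 32768) [C3_0, C3_1, C3_2, C3_3, C3_4, C3_5, C3_6, C3_7, C3_8, C3_9, C3_10, C3_11, C3_12, C3_13])
noncomputable def C4 : ℕ := (cat (nat_lit 32768) [C4_0, C4_1, C4_2, C4_3, C4_4, C4_5, C4_6, C4_7, C4_8, C4_9, C4_10, C4_11, C4_12, C4_13])
noncomputable def C5 : ℕ := (cat (nat_lit 32768) [C5_0, C5_1, C5_2, C5_3, C5_4, C5_5, C5_6, C5_7, C5_8, C5_9, C5_10, C5_11, C5_12, C5_13])
noncomputable def C6 : ℕ := (cat (nat_lit 32768) [C6_0, C6_1, C6_2, C6_3, C6_4, C6_5, C6_6, C6_7, C6_8, C6_9, C6_10, C6_11, C6_12, C6_13])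
noncomputable def C7 : ℕ := (cat (nat_lit 32768) [C7_0, C7_1, C7_2, C7_3, C7_4, C7_5, C7_6, C7_7, C7_8, C7_9, C7_10, C7_11, C7_12, C7_13])
noncomputable def C8 : ℕ := (cat (nat_lit 32768) [C8_0, C8_1, C8_2, C8_3, C8_4, C8_5, C8_6, C8_7, C8_8, C8_9, C8_10, C8_11, C8_12, C8_13])
noncomputable def C9 : ℕ := (cat (nat_lit 32768) [C9_0, C9_1, C9_2, C9_3, C9_4, C9_5, C9_6, C9_7, C9_8, C9_9, C9_10, C9_11, C9_12, C9_13])
noncomputable def C10 : ℕ := (cat (nat_lit 32768) [C10_0, C10_1, C10_2, C10_3, C10_4, C10_5, C10_6, C10_7, C10_8, C10_9, C10_10, C10_11, C10_12, C10_13])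
noncomputable def C11 : ℕ := (cat (nat_lit 32768) [C11_0, C11_1, C11_2, C11_3, C11_4, C11_5, C11_6, C11_7, C11_8, C11_9, C11_10, C11_11, C11_12, C11_13])
noncomputable def C12 : ℕ := (cat (nat_lit 32768) [C12_0, C12_1, C12_2, C12_3, C12_4, C12_5, C12_6, C12_7, C12_8, C12_9, C12_10, C12_11, C12_12, C12_13])
noncomputable def C13 : ℕ := (cat (nat_lit 32768) [C13_0, C13_1, C13_2, C13_3, C13_4, C13_5, C13_6, C13_7, C13_8, C13_9, C13_10, C13_11, C13_12, C13_13])
noncomputable def ct : Tr := (.node (.node (.node (.leaf C8) (.node (.leaf C4) (.leaf C12))) (.node (.node (.leaf C2) (.leaf C10)) (.leaf C6))) (.node (.node (.node (.leaf C1) (.leaf C9)) (.node (.leaf C5) (.leaf C13))) (.node (.node (.leaf C3) (.leaf C11)) (.leaf C7))))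
theorem cc1 : chkCov (tab tt) st.get (tab32 ct) 303 14 110 128 1 = true := by decide +kernel
theorem cc2 : chkCov (tab tt) st.get (tab32 ct) 303 14 110 128 2 = true := by decide +kernel
theorem cc3 : chkCov (tab tt) st.get (tab32 ct) 303 14 110 128 3 = true := by decide +kernel
theorem cc4 : chkCov (tab tt) st.get (tab32 ct) 303 14 110 128 4 = true := by decide +kernel
theorem cc5 : chkCov (tab tt) st.get (tab32 ct) 303 14 110 128 5 = true := by decide +kernel
theorem cc6 : chkCov (tab tt) st.get (tab32 ct) 303 14 110 128 6 = true := by decide +kernel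
theorem cc7 : chkCov (tab tt) st.get (tab32 ct) 303 14 110 128 7 = true := by decide +kernel
theorem cc8 : chkCov (tab tt) st.get (tab32 ct) 303 14 110 128 8 = true := by decide +kernel
theorem cc9 : chkCov (tab tt) st.get (tab32 ct) 303 14 110 128 9 = true := by decide +kernel
theorem cc10 : chkCov (tab tt) st.get (tab32 ct) 303 14 110 128 10 = true := by decide +kernel
theorem cc11 : chkCov (tab tt) st.get (tab32 ct) 303 14 110 128 11 = true := by decide +kernel
theorem cc12 : chkCov (tab tt) st.get (tab32 ct) 303 14 110 128 12 = true := by decide +kernel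
theorem cc13 : chkCov (tab tt) st.get (tab32 ct) 303 14 110 128 13 = true := by decide +kernel
theorem cover : Below (fun i => chkCov (tab tt) st.get (tab32 ct) 303 14 110 128 (i + 1)) (14 - 1) :=
  ⟨⟨⟨⟨⟨⟨⟨⟨⟨⟨⟨⟨⟨trivial, cc1⟩, cc2⟩, cc3⟩, cc4⟩, cc5⟩, cc6⟩, cc7⟩, cc8⟩, cc9⟩, cc10⟩, cc11⟩, cc12⟩, cc13⟩
def El : List ℕ := [0x37000000, 0x2aa80c5700000001, 0x21c0000015000000000000400000, 0xf30222c009005100000000000040000, 0x1626151800000000000000000000000000000af000d200000000, 0x315c02be017a00000000000000000000016c000000000000, 0xc0823e003c00000000100000000000000000348000f00000000, 0x63026ac090600420000000000000000000000dc000000000000, 0x2c000000000000000000000000000b00000000000000000000000000, 0x30c00000064000000000000000000000, 0x9000000000000000000000024c00900004000000000000000000000, 0x2d80000000000000000000020d011f000f000780000000000000000, 0x1400000000000000000000018001b80000002400000000000000000, 0x3021f4814a00000001600000000000000000000000000000000]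
theorem cr0 : chkRow (tab32 ct) El 110 128 0 = true := by decide +kernel
theorem cr1 : chkRow (tab32 ct) El 110 128 1 = true := by decide +kernel
theorem cr2 : chkRow (tab32 ct) El 110 128 2 = true := by decide +kernel
theorem cr3 : chkRow (tab32 ct) El 110 128 3 = true := by decide +kernel
theorem cr4 : chkRow (tab32 ct) El 110 128 4 = true := by decide +kernel
theorem cr5 : chkRow (tab32 ct) El 110 128 5 = true := by decide +kernel
theorem cr6 : chkRow (tab32 ct) El 110 128 6 = true := by decide +kernel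
theorem cr7 : chkRow (tab32 ct) El 110 128 7 = true := by decide +kernel
theorem cr8 : chkRow (tab32 ct) El 110 128 8 = true := by decide +kernel
theorem cr9 : chkRow (tab32 ct) El 110 128 9 = true := by decide +kernel
theorem cr10 : chkRow (tab32 ct) El 110 128 10 = true := by decide +kernel
theorem cr11 : chkRow (tab32 ct) El 110 128 11 = true := by decide +kernel
theorem cr12 : chkRow (tab32 ct) El 110 128 12 = true := by decide +kernel
theorem cr13 : chkRow (tab32 ct) El 110 128 13 = true := by decide +kernel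
theorem rows : Below (chkRow (tab32 ct) El 110 128) 14 :=
  ⟨⟨⟨⟨⟨⟨⟨⟨⟨⟨⟨⟨⟨⟨trivial, cr0⟩, cr1⟩, cr2⟩, cr3⟩, cr4⟩, cr5⟩, cr6⟩, cr7⟩, cr8⟩, cr9⟩, cr10⟩, cr11⟩, cr12⟩, cr13⟩
def szl : List ℕ := [1,14080,694980,38438400,17791488,15206400,400308480,679311360,142155,3592512,166795200,800616960,175134960,72783360]
theorem sep_ok : sepOK 14 (fun i => fld 16 65535 (El.getD i 0)) (fun i => szl.getD i 0) = true := by
  decide +kernel

end CL.Y3
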